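import Mathlib

/-! Toeplitz matrices with positive symbol. -/

namespace Groth.Agent.Toep

open Complex MeasureTheory intervalIntegral Finset
open scoped ComplexOrder Real

theorem integral_exp_int (k : ℤ) :
    ∫ y in (0 : ℝ)..(2 * π), Complex.exp (I * (k : ℂ) * y) = if k = 0 then (2 * π : ℂ) else 0 := by
  split_ifs with h
  · simp [h]
  · have hc : I * (k : ℂ) ≠ 0 := mul_ne_zero I_ne_zero (by exact_mod_cast h)
    rw [integral_exp_mul_complex hc]
    have : Complex.exp (I * (k : ℂ) * ((2 * π : ℝ) : ℂ)) = 1 := by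
      rw [Complex.exp_eq_one_iff]; exact ⟨k, by push_cast; ring⟩
    rw [this]; simp

theorem posDef_symbol (m : ℕ) (t : ℤ → ℂ) (A : Matrix (Fin m) (Fin m) ℂ)
    (hA : ∀ i j : Fin m, A i j = t ((j : ℤ) - (i : ℤ))) (hH : A.IsHermitian)
    (hpos : Set.Countable {y : ℝ | ¬ 0 < (∑ k ∈ Finset.Ioo (-(m : ℤ)) (m : ℤ),
        t k * Complex.exp (Complex.I * (k : ℂ) * (y : ℂ))).re}) :
    A.PosDef := by
  classical
  refine Matrix.PosDef.of_dotProduct_mulVec_pos hH fun x hx => ?_
  set f : ℝ → ℂ := fun y => ∑ k ∈ Finset.Ioo (-(m : ℤ)) (m : ℤ), t k * exp (I * (k : ℂ) * (y : ℂ))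
  set p : ℝ → ℂ := fun y => ∑ j : Fin m, x j * exp (I * ((-(j : ℤ) : ℤ) : ℂ) * (y : ℂ))
  set g : ℝ → ℝ := fun y => (f y).re * Complex.normSq (p y)
  have hfc : Continuous f := by fun_prop
  have hpc : Continuous p := by fun_prop
  have hgc : Continuous g := by fun_prop
  set S : Set ℝ := {y : ℝ | 0 < (f y).re}
  have hS : Dense S := by
    have := hpos.dense_compl ℝ
    convert this using 1
    ext y; simp [S, f]
  have hf0 : ∀ y, 0 ≤ (f y).re := by
    intro y
    have : closure S ⊆ {y | 0 ≤ (f y).re} :=
      closure_minimal (fun y (hy : 0 < (f y).re) => hy.le)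
        (isClosed_le continuous_const (Complex.continuous_re.comp hfc))
    exact this (hS y)
  have hpi : (0 : ℝ) < 2 * π := by positivity
  have hex : ∃ c ∈ Set.Icc (0 : ℝ) (2 * π), 0 < g c := by
    by_contra hcon
    push Not at hcon
    have hzero : ∀ y ∈ Set.Ioo (0 : ℝ) (2 * π) ∩ S, p y = 0 := by
      rintro y ⟨hy, hyS⟩
      by_contra hp
      exact (hcon y (Set.Ioo_subset_Icc_self hy)).not_gt (mul_pos hyS (Complex.normSq_pos.2 hp))
    have hcl : Set.Icc (0 : ℝ) (2 * π) ⊆ {y | p y = 0} := by
      rw [← closure_Ioo hpi.ne]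
      refine closure_minimal ?_ (isClosed_eq hpc continuous_const)
      exact (hS.open_subset_closure_inter isOpen_Ioo).trans
        (closure_minimal hzero (isClosed_eq hpc continuous_const))
    refine hx (funext fun i => ?_)
    have h0 : ∫ y in (0 : ℝ)..(2 * π), p y * exp (I * ((i : ℤ) : ℂ) * y) = 0 := by
      have h' : ∀ y ∈ Set.uIcc (0 : ℝ) (2 * π),
          p y * exp (I * ((i : ℤ) : ℂ) * y) = (fun _ => (0 : ℂ)) y := by
        intro y hy
        rw [Set.uIcc_of_le hpi.le] at hy
        have : p y = 0 := hcl hy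
        simp [this]
      rw [intervalIntegral.integral_congr h']
      simp
    simp only [p, sum_mul, mul_assoc, ← Complex.exp_add, ← add_mul, ← mul_add, ← Int.cast_add] at h0
    simp only [← mul_assoc] at h0
    rw [intervalIntegral.integral_finsetSum fun j _ => Continuous.intervalIntegrable (by fun_prop) _ _] at h0
    simp only [intervalIntegral.integral_const_mul, integral_exp_int] at h0
    rw [Finset.sum_eq_single i] at h0
    · simpa [Real.pi_ne_zero] using h0
    · intro j _ hj
      have : -(j : ℤ) + (i : ℤ) ≠ 0 := fun h => hj (Fin.ext (by omega))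
      simp only [if_neg this, mul_zero]
    · simp
  have hint : 0 < ∫ y in (0 : ℝ)..(2 * π), g y :=
    intervalIntegral.integral_pos hpi hgc.continuousOn (fun y _ => mul_nonneg (hf0 y) (normSq_nonneg _)) hex
  have heq : ∫ y in (0 : ℝ)..(2 * π), f y * ((starRingEnd ℂ) (p y) * p y) =
      (2 * π : ℂ) * (star x ⬝ᵥ A.mulVec x) := by
    have hc : ∀ y : ℝ, f y * ((starRingEnd ℂ) (p y) * p y) =
        ∑ k ∈ Finset.Ioo (-(m : ℤ)) (m : ℤ), ∑ i : Fin m, ∑ j : Fin m,
          t k * ((starRingEnd ℂ) (x i) * x j) * exp (I * ((k + i - j : ℤ) : ℂ) * y) := by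
      intro y
      simp only [f, p, map_sum, map_mul, ← Complex.exp_conj, conj_I, Complex.conj_ofReal, map_intCast,
        sum_mul, mul_sum]
      rw [Finset.sum_comm]
      conv_rhs => rw [Finset.sum_comm]
      refine Finset.sum_congr rfl fun i _ => ?_
      rw [Finset.sum_comm]
      refine Finset.sum_congr rfl fun k _ => Finset.sum_congr rfl fun j _ => ?_
      push_cast
      rw [show I * ((k : ℂ) + (i : ℂ) - (j : ℂ)) * y = I * k * y + (-I * -(i : ℂ) * y + I * -(j : ℂ) * y) by ring,
        Complex.exp_add, Complex.exp_add]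
      ring
    simp only [hc]
    rw [intervalIntegral.integral_finsetSum fun k _ => Continuous.intervalIntegrable (by fun_prop) _ _]
    rw [Finset.sum_congr rfl fun k _ => intervalIntegral.integral_finsetSum fun i _ =>
      Continuous.intervalIntegrable (by fun_prop) _ _]
    rw [Finset.sum_congr rfl fun k _ => Finset.sum_congr rfl fun i _ =>
      intervalIntegral.integral_finsetSum fun j _ => Continuous.intervalIntegrable (by fun_prop) _ _]
    simp only [intervalIntegral.integral_const_mul, integral_exp_int]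
    rw [Finset.sum_comm]
    simp only [dotProduct, Matrix.mulVec, Pi.star_apply, mul_sum]
    refine Finset.sum_congr rfl fun i _ => ?_
    rw [Finset.sum_comm]
    refine Finset.sum_congr rfl fun j _ => ?_
    rw [Finset.sum_eq_single ((j : ℤ) - i)]
    · rw [if_pos (by ring), hA i j, Complex.star_def]; ring
    · intro k _ hk
      rw [if_neg (fun h => hk (by linarith)), mul_zero]
    · intro h
      exact absurd (Finset.mem_Ioo.2 ⟨by omega, by omega⟩) h
  have hre : ∫ y in (0 : ℝ)..(2 * π), g y = (2 * π) * (star x ⬝ᵥ A.mulVec x).re := by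
    have hcont : Continuous fun y => f y * ((starRingEnd ℂ) (p y) * p y) := by fun_prop
    have := congrArg Complex.re heq
    rw [← Complex.reCLM_apply, ← Complex.reCLM.intervalIntegral_comp_comm (hcont.intervalIntegrable _ _)] at this
    simp only [Complex.reCLM_apply, ← Complex.normSq_eq_conj_mul_self, Complex.mul_re, Complex.ofReal_re,
      Complex.ofReal_im, mul_zero, sub_zero] at this
    rw [this]
    simp
  rw [Complex.lt_def]
  refine ⟨?_, ?_⟩
  · rw [hre] at hint
    rw [Complex.zero_re]
    exact pos_of_mul_pos_right hint hpi.le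
  · rw [Complex.zero_im, eq_comm]
    simpa using hH.im_star_dotProduct_mulVec_self x

end Groth.Agent.Toep
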