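import Mathlib

/-! Signed binomial Toeplitz matrices. -/

namespace Groth.Agent.Toep

open Finset

theorem sum_choose_mul (a : ℕ) : ∀ b d N : ℕ, a < N →
    ∑ k ∈ range N, a.choose k * b.choose (k + d) = (a + b).choose (a + d) := by
  induction a with
  | zero =>
    intro b d N hN
    rw [sum_eq_single 0]
    · simp
    · intro k _ hk; simp [Nat.choose_eq_zero_of_lt (Nat.pos_of_ne_zero hk)]
    · simp [hN.ne']
  | succ a ih =>
    intro b d N hN
    obtain ⟨N, rfl⟩ : ∃ M, N = M + 1 := ⟨N - 1, by omega⟩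
    rw [sum_range_succ']
    simp only [Nat.choose_succ_succ', add_mul, sum_add_distrib, Nat.choose_zero_right, one_mul, zero_add]
    have h1 := ih b d (N + 1) (by omega)
    rw [sum_range_succ'] at h1
    simp only [Nat.choose_zero_right, one_mul, zero_add] at h1
    have h2 := ih b (d + 1) N (by omega)
    have e : ∀ k, k + (d + 1) = k + 1 + d := fun k => by omega
    simp only [e] at h2
    rw [show a + 1 + b = (a + b) + 1 by omega, show a + 1 + d = (a + d) + 1 by omega,
      Nat.choose_succ_succ']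
    rw [show a + 1 + d = a + d + 1 by omega] at h2
    linarith

/-- The Gram factor. -/
def B (n m : ℕ) : Matrix (Fin (m + n + 1)) (Fin m) ℝ :=
  Matrix.of fun l i => if (i : ℕ) ≤ l then (-1 : ℝ) ^ (i : ℕ) * (n.choose ((l : ℕ) - i) : ℝ) else 0

theorem gram_le (n m : ℕ) {i j : Fin m} (hji : (j : ℕ) ≤ i) :
    ∑ l : Fin (m + n + 1), B n m l i * B n m l j =
      (-1 : ℝ) ^ ((i : ℕ) + j) * ((2 * n).choose (n + ((i : ℕ) - j)) : ℝ) := by
  simp only [B, Matrix.of_apply]
  rw [Fin.sum_univ_eq_sum_range (fun l => (if (i : ℕ) ≤ l then (-1 : ℝ) ^ (i : ℕ) * (n.choose (l - i) : ℝ) else 0) *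
    (if (j : ℕ) ≤ l then (-1 : ℝ) ^ (j : ℕ) * (n.choose (l - j) : ℝ) else 0)),
    show m + n + 1 = (i : ℕ) + (m + n + 1 - i) by omega, sum_range_add]
  have h0 : ∀ l ∈ range (i : ℕ), (if (i : ℕ) ≤ l then (-1 : ℝ) ^ (i : ℕ) * (n.choose (l - i) : ℝ) else 0) *
      (if (j : ℕ) ≤ l then (-1 : ℝ) ^ (j : ℕ) * (n.choose (l - j) : ℝ) else 0) = 0 := by
    intro l hl
    rw [mem_range] at hl
    rw [if_neg (by omega), zero_mul]
  rw [sum_eq_zero h0, zero_add, two_mul, ← sum_choose_mul n n ((i : ℕ) - j) (m + n + 1 - i) (by omega),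
    Nat.cast_sum, mul_sum]
  refine sum_congr rfl fun k _ => ?_
  rw [if_pos (by omega), if_pos (by omega), Nat.add_sub_cancel_left,
    show (i : ℕ) + k - j = k + ((i : ℕ) - j) by omega, pow_add, Nat.cast_mul]
  ring

theorem posDef_even (n m : ℕ) :
    (Matrix.of fun i j : Fin m =>
      (-1 : ℝ) ^ ((i : ℕ) + (j : ℕ)) * (Nat.choose (2 * n) (n + Nat.dist i j) : ℝ)).PosDef := by
  have hB : (B n m).conjTranspose * B n m = Matrix.of fun i j : Fin m =>
      (-1 : ℝ) ^ ((i : ℕ) + (j : ℕ)) * (Nat.choose (2 * n) (n + Nat.dist i j) : ℝ) := by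
    ext i j
    simp only [Matrix.mul_apply, Matrix.conjTranspose_apply, star_trivial, Matrix.of_apply]
    rcases le_total (j : ℕ) i with h | h
    · rw [gram_le n m h, Nat.dist_eq_sub_of_le_right h]
    · rw [Nat.dist_eq_sub_of_le h, add_comm (i : ℕ) j, ← gram_le n m h]
      exact sum_congr rfl fun l _ => mul_comm _ _
  rw [← hB]
  refine Matrix.PosDef.conjTranspose_mul_self _ fun x y hxy => ?_
  rw [← sub_eq_zero]
  replace hxy : (B n m).mulVec (x - y) = 0 := by rw [Matrix.mulVec_sub, hxy, sub_self]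
  generalize x - y = z at hxy ⊢
  funext i
  obtain ⟨i, hi⟩ := i
  induction i using Nat.strong_induction_on with
  | _ i ih =>
    have := congrFun hxy ⟨i, by omega⟩
    simp only [Matrix.mulVec, dotProduct, Pi.zero_apply] at this
    rw [sum_eq_single ⟨i, hi⟩] at this
    · simpa [B] using this
    · intro j _ hj
      rcases lt_or_ge (j : ℕ) i with h | h
      · rw [ih j h j.2]; simp
      · have : i < (j : ℕ) := lt_of_le_of_ne h fun h' => hj (Fin.ext h'.symm)
        simp [B, not_le.2 this]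
    · simp

theorem det_odd_ne_zero (n m : ℕ) :
    (Matrix.of fun i j : Fin m =>
      (-1 : ℤ) ^ ((i : ℕ) + (j : ℕ)) *
        (if (j : ℕ) ≤ (i : ℕ) then (Nat.choose (2 * n + 1) (n + 1 + ((i : ℕ) - (j : ℕ))) : ℤ)
          else (Nat.choose (2 * n + 1) (n + ((j : ℕ) - (i : ℕ))) : ℤ))).det ≠ 0 := by
  classical
  intro hdet
  set T : Matrix (Fin m) (Fin m) ℤ := Matrix.of fun i j : Fin m =>
      (-1 : ℤ) ^ ((i : ℕ) + (j : ℕ)) *
        (if (j : ℕ) ≤ (i : ℕ) then (Nat.choose (2 * n + 1) (n + 1 + ((i : ℕ) - (j : ℕ))) : ℤ)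
          else (Nat.choose (2 * n + 1) (n + ((j : ℕ) - (i : ℕ))) : ℤ)) with hT
  set S : Matrix (Fin m) (Fin m) ℝ := T.map (Int.castRingHom ℝ)
  have hS : S.det = 0 := by
    rw [show S = (Int.castRingHom ℝ).mapMatrix T from rfl, ← RingHom.map_det, hdet, map_zero]
  obtain ⟨v, hv, hSv⟩ := Matrix.exists_mulVec_eq_zero_iff.2 hS
  have key : S + S.transpose = Matrix.of fun i j : Fin m =>
      (-1 : ℝ) ^ ((i : ℕ) + (j : ℕ)) * (Nat.choose (2 * (n + 1)) (n + 1 + Nat.dist i j) : ℝ) := by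
    have hsymm : (2 * n + 1).choose (n + 1) = (2 * n + 1).choose n := by
      rw [← Nat.choose_symm (show n ≤ 2 * n + 1 by omega)]; congr 1; omega
    have hp : ∀ d, (2 * (n + 1)).choose (n + 1 + d) =
        (2 * n + 1).choose (n + d) + (2 * n + 1).choose (n + 1 + d) := fun d => by
      rw [show 2 * (n + 1) = (2 * n + 1) + 1 by ring, show n + 1 + d = (n + d) + 1 by omega,
        Nat.choose_succ_succ']
    ext i j
    simp only [S, T, Matrix.add_apply, Matrix.transpose_apply, Matrix.map_apply, Matrix.of_apply, hp]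
    rcases lt_trichotomy (j : ℕ) i with h | h | h
    · rw [if_pos h.le, if_neg (not_le.2 h), Nat.dist_eq_sub_of_le_right h.le, add_comm (j : ℕ) i]
      push_cast; simp; ring
    · rw [if_pos h.le, if_pos h.ge, Nat.dist_eq_sub_of_le_right h.le, h]
      simp [hsymm]
    · rw [if_neg (not_le.2 h), if_pos h.le, Nat.dist_eq_sub_of_le h.le, add_comm (j : ℕ) i]
      push_cast; simp; ring
  have hpos := (posDef_even (n + 1) m)
  rw [← key] at hpos
  have h0 := hpos.dotProduct_mulVec_pos hv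
  rw [Matrix.add_mulVec, hSv, zero_add, star_trivial, Matrix.dotProduct_mulVec, Matrix.vecMul_transpose,
    hSv] at h0
  simp at h0

end Groth.Agent.Toep
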